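import Cfsg.Agent.H763.TwoF4.Words
import Cfsg.Agent.H6.QO.Frame

/-!
# The double cover of `F₄(2)` as a `Cov` (helper763)

`exists_cov` : a finite perfect central extension of `F₄(2)` with kernel of order 2 in `GL₅₂(7)`; `rowA_of` : Ore's theorem
for the covers of `F₄(2)` from `AllC` of such a group.
-/

set_option autoImplicit false
set_option maxRecDepth 10000

namespace Cfsg.Agent.H763.TwoF4

open Cfsg.Lie Cfsg.Agent.Lib.PackMat Cfsg.Agent.Lib.PackMatGroup Cfsg.Agent.FourTwo.Base Cfsg.Agent.FourTwo.Comm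
open Cfsg.Agent.H65.F4T Cfsg.Agent.H777.Ore Cfsg.Agent.H51.Mult Cfsg.Agent.H6.QO
open scoped commutatorElement

/-- **the double cover** -/
theorem exists_cov : ∃ (Γ : Type) (_ : Group Γ) (_ : Finite Γ) (K : Cov Γ), PCE K.σ ∧ Nat.card K.σ.ker = 2 := by
  obtain ⟨φ, hφ⟩ := exists_phi
  have hinj := phi_inj hφ
  let Γ : Subgroup (U C) := φ.range.comap q
  let ρ : Γ →* φ.range := (q.comp Γ.subtype).codRestrict φ.range fun g => g.2
  let σ : Γ →* LL := (MonoidHom.ofInjective hinj).symm.toMonoidHom.comp ρ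
  have hσ : ∀ g : Γ, φ (σ g) = q (g : U C) := by
    intro g
    have h1 : MonoidHom.ofInjective hinj (σ g) = ρ g := MulEquiv.apply_symm_apply _ _
    exact congrArg Subtype.val h1
  have hsurj : Function.Surjective σ := by
    intro y
    obtain ⟨g, hg⟩ := QuotientGroup.mk'_surjective NN (φ y)
    refine ⟨⟨g, ⟨y, hg.symm⟩⟩, hinj ?_⟩
    rw [hσ]
    exact hg
  have hker : ∀ g : Γ, g ∈ σ.ker ↔ (g : U C) = 1 ∨ (g : U C) = -1 := by
    intro g
    rw [← q_eq_one, ← hσ, MonoidHom.mem_ker, ← map_one φ]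
    exact hinj.eq_iff.symm
  have hneg : (-1 : U C) ∈ Γ := by
    show q (-1) ∈ φ.range
    rw [(q_eq_one).2 (Or.inr rfl)]
    exact one_mem _
  have hX : ∀ r < 48, X r ∈ Γ := by
    intro r hr
    show q (X r) ∈ φ.range
    exact ⟨x r, hφ r hr⟩
  have hc : σ.ker ≤ Subgroup.center Γ := by
    intro g hg
    rw [Subgroup.mem_center_iff]
    intro h
    apply Subtype.ext
    rw [Subgroup.coe_mul, Subgroup.coe_mul]
    rcases (hker g).1 hg with e | e <;> rw [e]
    · rw [one_mul, mul_one]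
    · exact (neg_one_cen _).symm
  have hk : σ.ker ≤ commutator Γ := by
    intro g hg
    have h1 : (-1 : U C) ∈ (commutator Γ).map Γ.subtype := by
      apply neg_one_mem
      intro r hr s hs
      refine ⟨⁅(⟨X r, hX r hr⟩ : Γ), ⟨X s, hX s hs⟩⁆, ?_, ?_⟩
      · exact Subgroup.commutator_mem_commutator (Subgroup.mem_top _) (Subgroup.mem_top _)
      · rw [map_commutatorElement]; rfl
    obtain ⟨k, hk, hk'⟩ := h1
    rcases (hker g).1 hg with e | e
    · rw [show g = 1 from Subtype.ext e]; exact one_mem _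
    · rw [show g = k from Subtype.ext (by rw [e, ← hk']; rfl)]; exact hk
  have hperf : commutator Γ = ⊤ := by
    have := simple_LL
    have hp : commutator LL = ⊤ := by
      refine (IsSimpleGroup.eq_bot_or_eq_top_of_normal (commutator LL) inferInstance).resolve_left fun h => ?_
      apply (Cfsg.Agent.S1054.result (F := ZMod 2) chevF4 (by simp)).2
      refine ⟨⟨fun a b => ?_⟩⟩
      have h1 : ⁅a, b⁆ ∈ commutator LL := Subgroup.commutator_mem_commutator (Subgroup.mem_top _) (Subgroup.mem_top _)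
      rw [h, Subgroup.mem_bot, commutatorElement_eq_one_iff_mul_comm] at h1
      exact h1
    have h1 : (commutator Γ).map σ = ⊤ := by
      rw [commutator_def, Subgroup.map_commutator, ← MonoidHom.range_eq_map, MonoidHom.range_eq_top.2 hsurj,
        ← commutator_def, hp]
    rw [eq_top_iff]
    intro g _
    obtain ⟨c, hc1, hc2⟩ : σ g ∈ (commutator Γ).map σ := h1 ▸ Subgroup.mem_top _
    have h2 : c⁻¹ * g ∈ σ.ker := by rw [MonoidHom.mem_ker, map_mul, map_inv, hc2, inv_mul_cancel]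
    have h3 := mul_mem hc1 (hk h2)
    rwa [mul_inv_cancel_left] at h3
  refine ⟨Γ, inferInstance, inferInstance,
    Cov.mk' Γ.subtype Γ.subtype_injective σ hsurj φ hφ hinj hσ, ⟨hsurj, hc, hperf⟩, ?_⟩
  have h1 : ∀ g : σ.ker, g = 1 ∨ g = ⟨⟨-1, hneg⟩, (hker _).2 (Or.inr rfl)⟩ := by
    rintro ⟨g, hg⟩
    rcases (hker g).1 hg with e | e
    · exact Or.inl (Subtype.ext (Subtype.ext e))
    · exact Or.inr (Subtype.ext (Subtype.ext e))
  have h2 : (1 : σ.ker) ≠ ⟨⟨-1, hneg⟩, (hker _).2 (Or.inr rfl)⟩ := by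
    intro h
    exact neg_one_ne (congrArg (fun g : σ.ker => ((g : Γ) : U C)) h).symm
  rw [Nat.card_eq_two_iff]
  exact ⟨1, _, h2, Set.eq_univ_of_forall fun g => by
    rcases h1 g with e | e
    · exact Or.inl e
    · exact Or.inr e⟩

/-- **the row from `AllC` of the double cover** -/
theorem rowA_of (h : ∀ (Γ : Type) [Group Γ] [Finite Γ] (K : Cov Γ), PCE K.σ → Nat.card K.σ.ker = 2 → AllC Γ) :
    RowA LL := by
  obtain ⟨Γ, _, _, K, h1, h2⟩ := exists_cov
  exact RowA.of_univ (hasMult_LL) h1 (by rw [h2]; simp) (h Γ K h1 h2)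

theorem ckZ : checkScalar C (cw L (cm [43, 30, 18] [33, 40, 18, 21])) 6 0 52 = true := by decide +kernel

/-- **the central element is a commutator** -/
theorem isC_neg {Γ : Type*} [Group Γ] (K : Cov Γ) {g : Γ} (hg : K.ι g = -1) : IsC g := by
  obtain ⟨c, h1, -, h3⟩ := K.hcomm (a := [43, 30, 18]) (b := [33, 40, 18, 21]) (by decide) (by decide)
  rw [WX_neg (by decide) ckZ, ← hg] at h3
  rw [← K.inj h3]
  exact h1

/-- the elements of the kernel are commutators -/
theorem isC_ker {Γ : Type*} [Group Γ] (K : Cov Γ) {g : Γ} (hg : K.σ g = 1) : IsC g := by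
  rcases (K.hk g).1 hg with h | h
  · rw [K.inj (h.trans (map_one K.ι).symm)]
    exact ⟨1, 1, by group⟩
  · exact isC_neg K h

end Cfsg.Agent.H763.TwoF4
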