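import Cfsg.Agent.Characters.Counting
import Cfsg.Agent.Characters.GaloisBasic
import Cfsg.Agent.H777.Ore.Base

/-!
# Honda's theorem (helper763)

`isC_pow` : a power `g ^ k` with `k` prime to the order of the commutator `g` is a commutator.
-/

set_option autoImplicit false

namespace Cfsg.Agent.H763.Honda

open Cfsg Cfsg.Agent.H777.Ore Cfsg.Agent.Characters.Counting Cfsg.Agent.Characters.GaloisBasic

universe u

variable {G : Type u} [Group G] [Finite G]

theorem card_pow {m : ℕ} (hm : m.Coprime (Nat.card G)) (g : G) :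
    Nat.card {p : G × G // p.1 * p.2 * p.1⁻¹ * p.2⁻¹ * g ^ m = 1} =
      Nat.card {p : G × G // p.1 * p.2 * p.1⁻¹ * p.2⁻¹ * g = 1} := by
  have : Finite (IrrCharacter G) := Characters.Core.finite_irr
  have : Fintype (IrrCharacter G) := Fintype.ofFinite _
  obtain ⟨σ, hσ⟩ := exists_ringEquiv_of_coprime hm
  have h1 := card_commutator_pairs g
  have h2 := card_commutator_pairs (g ^ m)
  have h3 := congrArg σ h1
  rw [map_natCast, map_mul, map_natCast, map_sum] at h3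
  have h4 : (∑ χ : IrrCharacter G, σ ((χ : G → ℂ) g / (χ : G → ℂ) 1)) =
      ∑ χ : IrrCharacter G, (χ : G → ℂ) (g ^ m) / (χ : G → ℂ) 1 := by
    refine Finset.sum_congr rfl fun χ _ => ?_
    rw [map_div₀, hσ _ (Characters.Core.isIrr_isCharacter χ.2) g, hσ _ (Characters.Core.isIrr_isCharacter χ.2) 1,
      one_pow]
  rw [h4, ← h2] at h3
  exact_mod_cast h3.symm

theorem isC_iff_card (g : G) :
    IsC g ↔ Nat.card {p : G × G // p.1 * p.2 * p.1⁻¹ * p.2⁻¹ * g⁻¹ = 1} ≠ 0 := by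
  constructor
  · rintro ⟨a, b, rfl⟩
    rw [Nat.card_ne_zero]
    exact ⟨⟨⟨(a, b), mul_inv_cancel _⟩⟩, inferInstance⟩
  · intro h
    obtain ⟨⟨⟨a, b⟩, h1⟩⟩ := (Nat.card_ne_zero.1 h).1
    exact ⟨a, b, (mul_inv_eq_one.1 h1).symm⟩

/-- an exponent prime to `n` -/
theorem exists_coprime {k n N : ℕ} (hn : n ∣ N) (hN : N ≠ 0) (hk : k.Coprime n) :
    ∃ m : ℕ, m.Coprime N ∧ m ≡ k [MOD n] := by
  have : NeZero N := ⟨hN⟩
  have : NeZero n := ⟨fun h => hN (Nat.eq_zero_of_zero_dvd (h ▸ hn))⟩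
  obtain ⟨u, hu⟩ := ZMod.unitsMap_surjective hn (ZMod.unitOfCoprime k hk)
  refine ⟨(u : ZMod N).val, ZMod.val_coe_unit_coprime u, ?_⟩
  rw [← ZMod.natCast_eq_natCast_iff]
  have h1 := congrArg (fun v : (ZMod n)ˣ => (v : ZMod n)) hu
  simp only [ZMod.unitsMap_def, Units.coe_map, MonoidHom.coe_coe, ZMod.castHom_apply, ZMod.coe_unitOfCoprime] at h1
  rw [← h1, ZMod.natCast_val]

/-- **Honda's theorem** -/
theorem isC_pow {g : G} (h : IsC g) {k : ℕ} (hk : k.Coprime (orderOf g)) : IsC (g ^ k) := by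
  obtain ⟨m, h1, h2⟩ := exists_coprime (orderOf_dvd_natCard g) Nat.card_pos.ne' hk
  have h3 : g ^ k = g ^ m := (pow_eq_pow_iff_modEq.2 h2).symm
  rw [h3, isC_iff_card, ← inv_pow, card_pow h1, ← isC_iff_card]
  exact h

end Cfsg.Agent.H763.Honda
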