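import Cfsg.Agent.H65.F4T.Mult
import Cfsg.Agent.FourTwo.ClassSep
import Cfsg.Agent.H763.TwoF4.Honda

/-!
# `2.F₄(2)`: the elements over the classes 13, 17A, 17B, 21A, 21B are commutators (helper763; QS hub, D7)

`Cov Γ` : `Γ` is the double cover in `GL₅₂(7)` (matrices of helper65). `isC_13`, `isC_17`, `isC_21` : both lifts of the
elements of order 13, 17, 21 of `F₄(2)` are commutators, from the conjugacy statements `conj13`, `conj17`, `conj21` in
`F₄(2)` (helper326, helper197).
-/

set_option autoImplicit false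
set_option maxRecDepth 100000

namespace Cfsg.Agent.H763.TwoF4

open Cfsg.Lie Cfsg.Agent.Lib.PackMat Cfsg.Agent.Lib.PackMatGroup Cfsg.Agent.FourTwo.Base Cfsg.Agent.FourTwo.ClassSep
open Cfsg.Agent.H65.F4T Cfsg.Agent.H777.Ore

universe u

theorem gen_inv {M : Type*} [Group M] [HasDistribNeg M] (v : M) : (-v)⁻¹ = -v⁻¹ := inv_neg

theorem gen_odd {M : Type*} [Monoid M] [HasDistribNeg M] {v s : M} {n : ℕ} (hn : Odd n) (h : v ^ n = s) :
    (-v) ^ n = -s := by rw [hn.neg_pow, h]

theorem gen_pm {M : Type*} [Monoid M] [HasDistribNeg M] {v w : M} {n : ℕ} (h : v = w ∨ v = -w)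
    (hw : w ^ n = 1 ∨ w ^ n = -1) : v ^ n = 1 ∨ v ^ n = -1 := by
  rcases h with rfl | rfl
  · exact hw
  · rcases Nat.even_or_odd n with hn | hn
    · rw [hn.neg_pow]; exact hw
    · rw [hn.neg_pow]
      rcases hw with e | e <;> rw [e]
      · exact Or.inr rfl
      · exact Or.inl (neg_neg _)

/-! ### words in the matrices -/

/-- product of a word in the matrices -/
noncomputable def WX (w : List ℕ) : U C := (w.map X).prod

theorem WX_nil : WX [] = 1 := rfl

theorem WX_cons (r : ℕ) (w : List ℕ) : WX (r :: w) = X r * WX w := by simp [WX]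

theorem WX_append (u v : List ℕ) : WX (u ++ v) = WX u * WX v := by simp [WX]

/-- repetition of a word -/
def rp (m : ℕ) (u : List ℕ) : List ℕ := (List.replicate m u).flatten

theorem WX_rp (m : ℕ) (u : List ℕ) : WX (rp m u) = WX u ^ m := by
  induction m with
  | zero => rfl
  | succ m ih =>
    have e : rp (m + 1) u = u ++ rp m u := rfl
    rw [e, WX_append, ih, pow_succ']

theorem wd_rp (m : ℕ) (u : List ℕ) : wd (rp m u) = wd u ^ m := by
  induction m with
  | zero => rfl
  | succ m ih =>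
    have e : rp (m + 1) u = u ++ rp m u := rfl
    rw [e, wd_append, ih, pow_succ']

/-- letters -/
abbrev okw (w : List ℕ) : Prop := (w.all fun r => decide (r < 48)) = true

theorem okw.lt {w : List ℕ} (h : okw w) : ∀ r ∈ w, r < 48 := fun r hr =>
  of_decide_eq_true (List.all_eq_true.1 h r hr)

theorem coe_WX : ∀ {w : List ℕ}, (∀ r ∈ w, r < 48) → ((WX w : U C) : M C) = (w.map Mt).prod
  | [], _ => rfl
  | r :: w, h => by
    rw [WX_cons, List.map_cons, List.prod_cons, Units.val_mul, coe_X (h r List.mem_cons_self),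
      coe_WX fun s hs => h s (List.mem_cons_of_mem _ hs)]

theorem ok_cw : ∀ {w : List ℕ}, (∀ r ∈ w, r < 48) → ∀ g ∈ cw L w, okG C g = true
  | [], _, g, hg => absurd hg (List.not_mem_nil)
  | r :: w, h, g, hg => by
    rw [cw_cons, List.mem_cons] at hg
    rcases hg with rfl | hg
    · exact okA (h r List.mem_cons_self)
    · exact ok_cw (fun s hs => h s (List.mem_cons_of_mem _ hs)) g hg

theorem WX_one {w : List ℕ} (hw : okw w) (h : checkScalar C (cw L w) 1 0 52 = true) : WX w = 1 := by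
  apply Units.ext
  have h1 := prod_scalar_of_check good (w := cw L w) (c := 1) (by decide) one_lt (ok_cw hw.lt) h
  rw [cw_map] at h1
  rw [coe_WX hw.lt, h1, Nat.cast_one, one_smul, Units.val_one]

theorem WX_neg {w : List ℕ} (hw : okw w) (h : checkScalar C (cw L w) 6 0 52 = true) : WX w = -1 := by
  apply Units.ext
  have h1 := prod_scalar_of_check good (w := cw L w) (c := 6) (by decide) one_lt (ok_cw hw.lt) h
  rw [cw_map] at h1
  have e : ((6 : ℕ) : ZMod C.p) = -1 := by decide
  rw [coe_WX hw.lt, h1, e, neg_smul, one_smul, Units.val_neg, Units.val_one]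

theorem okw_rp {w : List ℕ} (h : okw w) (m : ℕ) : okw (rp m w) := by
  unfold okw rp
  rw [List.all_flatten, List.all_eq_true]
  intro l hl
  rw [List.eq_of_mem_replicate hl]
  exact h

/-- the commutator word -/
def cm (a b : List ℕ) : List ℕ := a ++ (b ++ (a.reverse ++ b.reverse))

theorem WX_reverse : ∀ {w : List ℕ}, (∀ r ∈ w, r < 48) → WX w.reverse = (WX w)⁻¹
  | [], _ => by rw [List.reverse_nil, WX_nil, inv_one]
  | r :: w, h => by
    have h1 : (X r)⁻¹ = X r := inv_eq_of_mul_eq_one_left (X_sq (h r List.mem_cons_self))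
    rw [List.reverse_cons, WX_append, WX_reverse fun s hs => h s (List.mem_cons_of_mem _ hs), WX_cons r [], WX_nil,
      mul_one, WX_cons r w, mul_inv_rev, h1]

theorem wd_reverse : ∀ w : List ℕ, wd w.reverse = (wd w)⁻¹
  | [] => by rw [List.reverse_nil, wd_nil, inv_one]
  | r :: w => by
    rw [List.reverse_cons, wd_append, wd_reverse w, wd_one, wd_cons, mul_inv_rev, x_inv]

theorem WX_cm {a b : List ℕ} (ha : okw a) (hb : okw b) : WX (cm a b) = WX a * WX b * (WX a)⁻¹ * (WX b)⁻¹ := by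
  unfold cm
  rw [WX_append, WX_append, WX_append, WX_reverse ha.lt, WX_reverse hb.lt]
  simp only [mul_assoc]

theorem wd_cm (a b : List ℕ) : wd (cm a b) = wd a * wd b * (wd a)⁻¹ * (wd b)⁻¹ := by
  unfold cm
  rw [wd_append, wd_append, wd_append, wd_reverse, wd_reverse]
  simp only [mul_assoc]

/-! ### the double cover -/

/-- `Γ` is the double cover of `F₄(2)` given by the matrices -/
structure Cov (Γ : Type u) [Group Γ] where
  /-- the embedding -/
  ι : Γ →* U C
  inj : Function.Injective ι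
  /-- the projection -/
  σ : Γ →* LL
  surj : Function.Surjective σ
  hX : ∀ r < 48, ∀ g, σ g = x r → ι g = X r ∨ ι g = -X r
  hk : ∀ g, σ g = 1 ↔ ι g = 1 ∨ ι g = -1

/-- the standard form of the hypotheses -/
def Cov.mk' {Γ : Type u} [Group Γ] (ι : Γ →* U C) (inj : Function.Injective ι) (σ : Γ →* LL)
    (surj : Function.Surjective σ) (φ : LL →* U C ⧸ NN) (hφ : ∀ r < 48, φ (x r) = q (X r))
    (hinj : Function.Injective φ) (h : ∀ g, φ (σ g) = q (ι g)) : Cov Γ where
  ι := ι
  inj := inj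
  σ := σ
  surj := surj
  hX := by
    intro r hr g hg
    have h1 := h g
    rw [hg, hφ r hr] at h1
    have h2 : q (ι g * (X r)⁻¹) = 1 := by rw [map_mul, map_inv, ← h1, mul_inv_cancel]
    rcases q_eq_one.1 h2 with e | e
    · exact Or.inl (mul_inv_eq_one.1 e)
    · exact Or.inr (by rw [mul_inv_eq_iff_eq_mul.1 e, neg_one_mul])
  hk := by
    intro g
    rw [← q_eq_one, ← h g, ← map_one φ]
    exact hinj.eq_iff.symm

namespace Cov

variable {Γ : Type u} [Group Γ] (K : Cov Γ)

theorem hlift (w : List ℕ) (hw : ∀ r ∈ w, r < 48) : ∃ g : Γ, K.σ g = wd w ∧ (K.ι g = WX w ∨ K.ι g = -WX w) := by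
  induction w with
  | nil => exact ⟨1, by rw [map_one, wd_nil], Or.inl (by rw [map_one, WX_nil])⟩
  | cons r w ih =>
    obtain ⟨g, h1, h2⟩ := ih fun s hs => hw s (List.mem_cons_of_mem _ hs)
    obtain ⟨t, ht⟩ := K.surj (x r)
    refine ⟨t * g, by rw [map_mul, ht, h1, wd_cons], ?_⟩
    rw [map_mul, WX_cons]
    rcases K.hX r (hw r List.mem_cons_self) t ht with e | e <;> rcases h2 with e' | e' <;> rw [e, e']
    · exact Or.inl rfl
    · exact Or.inr (by rw [mul_neg])
    · exact Or.inr (by rw [neg_mul])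
    · exact Or.inl (by rw [neg_mul_neg])

/-- the commutator of two words -/
theorem hcomm {a b : List ℕ} (ha : okw a) (hb : okw b) :
    ∃ g : Γ, IsC g ∧ K.σ g = wd (cm a b) ∧ K.ι g = WX (cm a b) := by
  obtain ⟨A, h1, h2⟩ := K.hlift a ha.lt
  obtain ⟨B, h3, h4⟩ := K.hlift b hb.lt
  refine ⟨A * B * A⁻¹ * B⁻¹, ⟨A, B, rfl⟩, ?_, ?_⟩
  · rw [map_mul, map_mul, map_mul, map_inv, map_inv, h1, h3, wd_cm]
  · rw [map_mul, map_mul, map_mul, map_inv, map_inv, WX_cm ha hb]
    have hn : ∀ v : U C, (-v)⁻¹ = -v⁻¹ := fun v => gen_inv (M := U C) v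
    rcases h2 with e | e <;> rcases h4 with e' | e' <;> rw [e, e']
    · rw [hn]; simp only [mul_neg, neg_mul, neg_neg]
    · rw [hn]; simp only [mul_neg, neg_mul, neg_neg]
    · rw [hn, hn]; simp only [mul_neg, neg_mul, neg_neg]

/-- conjugates with the same power -/
theorem isC_of_pow {n : ℕ} (hn : Odd n) {c g : Γ} (hc : IsC c) {s : U C} (hs : s = 1 ∨ s = -1) (h1 : K.ι c ^ n = s)
    (h2 : K.ι g ^ n = s) (h : IsConj (K.σ g) (K.σ c)) : IsC g := by
  obtain ⟨y, hy⟩ := isConj_iff.1 h.symm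
  obtain ⟨t, ht⟩ := K.surj y
  have h3 : K.σ ((t * c * t⁻¹)⁻¹ * g) = 1 := by
    rw [map_mul, map_inv, map_mul, map_mul, map_inv, ht, hy, inv_mul_cancel]
  rcases (K.hk _).1 h3 with e | e
  · have h4 : (t * c * t⁻¹)⁻¹ * g = 1 := K.inj (by rw [e, map_one])
    rw [← inv_mul_eq_one.1 h4]
    exact hc.map (MulAut.conj t).toMonoidHom
  · exfalso
    have h4 : K.ι g = -(K.ι (t * c * t⁻¹)) := by
      rw [map_mul, map_inv, inv_mul_eq_iff_eq_mul] at e
      rw [e, mul_neg_one]
    have h5 : K.ι (t * c * t⁻¹) ^ n = s := by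
      rw [map_mul, map_mul, map_inv, conj_pow, h1]
      rcases hs with rfl | rfl
      · rw [mul_one, mul_inv_cancel]
      · rw [mul_neg_one, neg_mul, mul_inv_cancel]
    have h6 : K.ι g ^ n = -s := by
      rw [h4]
      exact gen_odd (M := U C) hn h5
    rw [h2] at h6
    rcases hs with rfl | rfl
    · exact neg_one_ne h6.symm
    · rw [neg_neg] at h6
      exact neg_one_ne h6

/-- the power is central -/
theorem pow_eq {g : Γ} {n : ℕ} (h : orderOf (K.σ g) = n) : K.ι g ^ n = 1 ∨ K.ι g ^ n = -1 := by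
  rw [← map_pow]
  exact (K.hk _).1 (by rw [map_pow, ← h, pow_orderOf_eq_one])

end Cov

/-- the order of a word in `F₄(2)` from the matrices: prime order -/
theorem pow_wd {Γ : Type u} [Group Γ] (K : Cov Γ) {w : List ℕ} (hw : okw w) {n : ℕ} (h : WX w ^ n = 1 ∨ WX w ^ n = -1) :
    wd w ^ n = 1 := by
  obtain ⟨g, h1, h2⟩ := K.hlift w hw.lt
  rw [← h1, ← map_pow, K.hk, map_pow]
  exact gen_pm (M := U C) h2 h

theorem rk2_one : rk2 (1 : LL) = (0, 0) := by
  have h : iv [] = (0, 0) := by decide +kernel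
  rw [← h, ← rk2_wd [] (by decide), wd_nil]

theorem wd_ne_one {w : List ℕ} (hw : okw w) {p : ℕ × ℕ} (h : iv w = p) (hp : p ≠ (0, 0)) : wd w ≠ 1 := by
  intro h1
  apply hp
  rw [← h, ← rk2_wd w hw, h1, rk2_one]

/-! ### the commutators -/

/-- the pair `13` -/
def a13 : List ℕ := [8, 6]
/-- the pair `13` -/
def b13 : List ℕ := [28, 43, 36, 37]
theorem ck13 : checkScalar C (cw L (rp 13 (cm a13 b13))) 1 0 52 = true := by decide +kernel
theorem iv13 : iv (cm a13 b13) = (24, 24) := by decide +kernel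

/-- the pair `26` -/
def a26 : List ℕ := [41, 1, 14]
/-- the pair `26` -/
def b26 : List ℕ := [3, 34, 43]
theorem ck26 : checkScalar C (cw L (rp 13 (cm a26 b26))) 6 0 52 = true := by decide +kernel
theorem iv26 : iv (cm a26 b26) = (24, 24) := by decide +kernel

/-- the pair `17` -/
def a17 : List ℕ := [16, 19]
/-- the pair `17` -/
def b17 : List ℕ := [40, 28, 30, 6]
theorem ck17 : checkScalar C (cw L (rp 17 (cm a17 b17))) 1 0 52 = true := by decide +kernel
theorem iv17 : iv (cm a17 b17) = (24, 24) := by decide +kernel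

/-- the pair `34` -/
def a34 : List ℕ := [22, 7, 43]
/-- the pair `34` -/
def b34 : List ℕ := [12, 46, 28]
theorem ck34 : checkScalar C (cw L (rp 17 (cm a34 b34))) 6 0 52 = true := by decide +kernel
theorem iv34 : iv (cm a34 b34) = (24, 24) := by decide +kernel

/-- the pair `21` -/
def a21 : List ℕ := [23, 3, 44]
/-- the pair `21` -/
def b21 : List ℕ := [31, 42, 10]
theorem ck21 : checkScalar C (cw L (rp 21 (cm a21 b21))) 1 0 52 = true := by decide +kernel
theorem iv21 : iv (cm a21 b21) = (24, 24) := by decide +kernel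

/-- the pair `21b` -/
def a21b : List ℕ := [14, 0, 47]
/-- the pair `21b` -/
def b21b : List ℕ := [35, 36, 15]
theorem ck21b : checkScalar C (cw L (rp 21 (cm a21b b21b))) 1 0 52 = true := by decide +kernel
theorem iv21b : iv (cm a21b b21b) = (24, 24) := by decide +kernel

/-- the pair `42` -/
def a42 : List ℕ := [14, 46, 15]
/-- the pair `42` -/
def b42 : List ℕ := [17, 44, 6, 28]
theorem ck42 : checkScalar C (cw L (rp 21 (cm a42 b42))) 6 0 52 = true := by decide +kernel
theorem iv42 : iv (cm a42 b42) = (24, 24) := by decide +kernel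

/-- the pair `42b` -/
def a42b : List ℕ := [23, 40, 10]
/-- the pair `42b` -/
def b42b : List ℕ := [19, 47, 18, 30]
theorem ck42b : checkScalar C (cw L (rp 21 (cm a42b b42b))) 6 0 52 = true := by decide +kernel
theorem iv42b : iv (cm a42b b42b) = (24, 24) := by decide +kernel


/-! ### the elements of `F₄(2)` -/

theorem iv21t : iv (rp 3 (cm a21 b21)) = (18, 24) := by decide +kernel
theorem iv21s : iv (rp 7 (cm a21 b21)) = (18, 12) := by decide +kernel
theorem iv42t : iv (rp 3 (cm a42 b42)) = (24, 18) := by decide +kernel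
theorem iv42s : iv (rp 7 (cm a42 b42)) = (12, 18) := by decide +kernel

section

variable {Γ : Type u} [Group Γ] (K : Cov Γ)

include K in
/-- order of a word -/
theorem orderOf_prime {w : List ℕ} (hw : okw w) {p : ℕ} (hp : p.Prime) {c : ℕ} (hc : c = 1 ∨ c = 6)
    (h : checkScalar C (cw L (rp p w)) c 0 52 = true) (hi : iv w = (24, 24)) : orderOf (wd w) = p := by
  have : Fact p.Prime := ⟨hp⟩
  refine orderOf_eq_prime (pow_wd K hw ?_) (wd_ne_one hw hi (by decide))
  rw [← WX_rp]
  rcases hc with rfl | rfl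
  · exact Or.inl (WX_one (okw_rp hw p) h)
  · exact Or.inr (WX_neg (okw_rp hw p) h)

include K in
theorem orderOf_21 {w : List ℕ} (hw : okw w) {c : ℕ} (hc : c = 1 ∨ c = 6)
    (h : checkScalar C (cw L (rp 21 w)) c 0 52 = true) {p q : ℕ × ℕ} (h3 : iv (rp 3 w) = p) (h7 : iv (rp 7 w) = q)
    (hp : p ≠ (0, 0)) (hq : q ≠ (0, 0)) : orderOf (wd w) = 21 := by
  refine orderOf_eq_of_pow_and_pow_div_prime (by norm_num) (pow_wd K hw ?_) fun r hr hd => ?_
  · rw [← WX_rp]
    rcases hc with rfl | rfl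
    · exact Or.inl (WX_one (okw_rp hw 21) h)
    · exact Or.inr (WX_neg (okw_rp hw 21) h)
  · have h1 : r = 3 ∨ r = 7 := by
      have h2 : r ∣ 3 * 7 := hd
      rcases (Nat.Prime.dvd_mul hr).1 h2 with h4 | h4
      · exact Or.inl ((Nat.prime_dvd_prime_iff_eq hr (by norm_num)).1 h4)
      · exact Or.inr ((Nat.prime_dvd_prime_iff_eq hr (by norm_num)).1 h4)
    rcases h1 with rfl | rfl
    · have e : 21 / 3 = 7 := rfl
      rw [e, ← wd_rp]
      exact wd_ne_one (okw_rp hw 7) h7 hq
    · have e : 21 / 7 = 3 := rfl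
      rw [e, ← wd_rp]
      exact wd_ne_one (okw_rp hw 3) h3 hp

/-- a commutator with given sign -/
theorem exists_c {a b : List ℕ} (ha : okw a) (hb : okw b) (hw : okw (cm a b)) {n c : ℕ} {s : U C}
    (hc : (c = 1 ∧ s = 1) ∨ (c = 6 ∧ s = -1)) (h : checkScalar C (cw L (rp n (cm a b))) c 0 52 = true) :
    ∃ g : Γ, IsC g ∧ K.σ g = wd (cm a b) ∧ K.ι g ^ n = s := by
  obtain ⟨g, h1, h2, h3⟩ := K.hcomm ha hb
  refine ⟨g, h1, h2, ?_⟩
  rw [h3, ← WX_rp]
  rcases hc with ⟨rfl, rfl⟩ | ⟨rfl, rfl⟩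
  · exact WX_one (okw_rp hw n) h
  · exact WX_neg (okw_rp hw n) h

/-- **both lifts of the elements of order 13** -/
theorem isC_13 (h13 : ∀ g h : LL, orderOf g = 13 → orderOf h = 13 → IsConj g h) {g : Γ} (hg : orderOf (K.σ g) = 13) :
    IsC g := by
  rcases K.pow_eq hg with e | e
  · obtain ⟨c, h1, h2, h3⟩ := exists_c K (a := a13) (b := b13) (by decide) (by decide) (by decide)
      (Or.inl ⟨rfl, rfl⟩) ck13
    refine K.isC_of_pow (by decide) h1 (Or.inl rfl) h3 e (h13 _ _ hg ?_)
    rw [h2]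
    exact orderOf_prime K (by decide) (by norm_num) (Or.inl rfl) ck13 iv13
  · obtain ⟨c, h1, h2, h3⟩ := exists_c K (a := a26) (b := b26) (by decide) (by decide) (by decide)
      (Or.inr ⟨rfl, rfl⟩) ck26
    refine K.isC_of_pow (by decide) h1 (Or.inr rfl) h3 e (h13 _ _ hg ?_)
    rw [h2]
    exact orderOf_prime K (by decide) (by norm_num) (Or.inr rfl) ck26 iv26

/-- cubes -/
theorem cube_step [Finite Γ] {c g : Γ} {n : ℕ} (hn : Odd n) (h3 : Nat.Coprime 3 (2 * n)) (hc : IsC c) {s : U C}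
    (hs : s = 1 ∨ s = -1) (h1 : K.ι c ^ n = s) (h2 : K.ι g ^ n = s)
    (h : IsConj (K.σ g) (K.σ c) ∨ IsConj (K.σ g) (K.σ c ^ 3)) : IsC g := by
  rcases h with h | h
  · exact K.isC_of_pow hn hc hs h1 h2 h
  · rw [← map_pow] at h
    have h4 : c ^ (2 * n) = 1 := by
      apply K.inj
      rw [map_pow, map_one, mul_comm, pow_mul, h1]
      rcases hs with rfl | rfl
      · rw [one_pow]
      · rw [neg_one_sq]
    refine K.isC_of_pow hn (Honda.isC_pow hc (k := 3) (Nat.Coprime.coprime_dvd_right (orderOf_dvd_of_pow_eq_one h4) h3))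
      hs ?_ h2 h
    rw [map_pow, ← pow_mul, mul_comm, pow_mul, h1]
    rcases hs with rfl | rfl
    · rw [one_pow]
    · exact gen_odd (M := U C) (by decide) (one_pow 3)

/-- **both lifts of the elements of order 17** -/
theorem isC_17 [Finite Γ] (h17 : ∀ g h : LL, orderOf g = 17 → orderOf h = 17 → IsConj g h ∨ IsConj g (h ^ 3)) {g : Γ}
    (hg : orderOf (K.σ g) = 17) : IsC g := by
  rcases K.pow_eq hg with e | e
  · obtain ⟨c, h1, h2, h3⟩ := exists_c K (a := a17) (b := b17) (by decide) (by decide) (by decide)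
      (Or.inl ⟨rfl, rfl⟩) ck17
    refine cube_step K (by decide) (by decide) h1 (Or.inl rfl) h3 e (h17 _ _ hg ?_)
    rw [h2]
    exact orderOf_prime K (by decide) (by norm_num) (Or.inl rfl) ck17 iv17
  · obtain ⟨c, h1, h2, h3⟩ := exists_c K (a := a34) (b := b34) (by decide) (by decide) (by decide)
      (Or.inr ⟨rfl, rfl⟩) ck34
    refine cube_step K (by decide) (by decide) h1 (Or.inr rfl) h3 e (h17 _ _ hg ?_)
    rw [h2]
    exact orderOf_prime K (by decide) (by norm_num) (Or.inr rfl) ck34 iv34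

theorem gamma_wd {α : LL ≃* LL} (hα : ∀ r < 48, α (x r) = x (bar r)) : ∀ {w : List ℕ}, (∀ r ∈ w, r < 48) →
    α (wd w) = wd (w.map bar)
  | [], _ => by rw [List.map_nil, wd_nil, map_one]
  | r :: w, h => by
    rw [List.map_cons, wd_cons, wd_cons, map_mul, hα r (h r List.mem_cons_self),
      gamma_wd hα fun s hs => h s (List.mem_cons_of_mem _ hs)]

/-- **both lifts of the elements of order 21** -/
theorem isC_21 {α : LL ≃* LL} (hα : ∀ r < 48, α (x r) = x (bar r))
    (h21 : ∀ g h : LL, orderOf g = 21 → orderOf h = 21 → IsConj g h ∨ IsConj g (α h)) {g : Γ}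
    (hg : orderOf (K.σ g) = 21) : IsC g := by
  rcases K.pow_eq hg with e | e
  · obtain ⟨c, h1, h2, h3⟩ := exists_c K (a := a21) (b := b21) (by decide) (by decide) (by decide)
      (Or.inl ⟨rfl, rfl⟩) ck21
    obtain ⟨c', h1', h2', h3'⟩ := exists_c K (a := a21b) (b := b21b) (by decide) (by decide) (by decide)
      (Or.inl ⟨rfl, rfl⟩) ck21b
    have ho := orderOf_21 K (w := cm a21 b21) (by decide) (Or.inl rfl) ck21 iv21t iv21s (by decide) (by decide)
    rcases h21 _ _ hg ho with h | h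
    · exact K.isC_of_pow (by decide) h1 (Or.inl rfl) h3 e (by rw [h2]; exact h)
    · refine K.isC_of_pow (by decide) h1' (Or.inl rfl) h3' e ?_
      rw [h2']
      rwa [gamma_wd hα (okw.lt (w := cm a21 b21) (by decide)), show (cm a21 b21).map bar = cm a21b b21b by decide] at h
  · obtain ⟨c, h1, h2, h3⟩ := exists_c K (a := a42) (b := b42) (by decide) (by decide) (by decide)
      (Or.inr ⟨rfl, rfl⟩) ck42
    obtain ⟨c', h1', h2', h3'⟩ := exists_c K (a := a42b) (b := b42b) (by decide) (by decide) (by decide)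
      (Or.inr ⟨rfl, rfl⟩) ck42b
    have ho := orderOf_21 K (w := cm a42 b42) (by decide) (Or.inr rfl) ck42 iv42t iv42s (by decide) (by decide)
    rcases h21 _ _ hg ho with h | h
    · exact K.isC_of_pow (by decide) h1 (Or.inr rfl) h3 e (by rw [h2]; exact h)
    · refine K.isC_of_pow (by decide) h1' (Or.inr rfl) h3' e ?_
      rw [h2']
      rwa [gamma_wd hα (okw.lt (w := cm a42 b42) (by decide)), show (cm a42 b42).map bar = cm a42b b42b by decide] at h

end

end Cfsg.Agent.H763.TwoF4
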